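import Cfsg.Agent.LT.B6
import Cfsg.Agent.L0.Dihedral
import Cfsg.Agent.BS.All

/-! Fields with at least eight elements: the torus, the sections and the braid relation. -/

set_option autoImplicit false
set_option linter.unusedSectionVars false

namespace Cfsg.LT

open Subgroup Cfsg.L0 Cfsg.FT Cfsg.H3 Cfsg.H9
open scoped MatrixGroups

variable {G : Type*} [Group G] [Finite G] {F : Type*} [Field F] [Fintype F] [CharP F 2]

theorem not_cyc {A : Subgroup G} (e : ∀ x ∈ A, x * x = 1) (h : 2 < ♯A) : ¬ IsCyclic A := fun _ => by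
  obtain ⟨x, hx⟩ := IsCyclic.exists_ofOrder_eq_natCard (α := A)
  have := orderOf_le_of_pow_eq_one two_pos (show x ^ 2 = 1 from Subtype.ext (by
    simpa [pow_two] using e x x.2))
  omega

theorem breg0 {M A : Subgroup G} (h : SPE 2 M ⊤) (hA : A ≤ M) (e : ∀ x ∈ A, x * x = 1) (h4 : 4 ≤ ♯A) :
    ∃ Q O : Subgroup G, Q ≤ M ∧ M ≤ 𝒩 Q ∧ O ≤ M ∧ O.Normal ∧ (♯O).Coprime 2 ∧
      (∀ g g', g ∉ M → g' ∉ M → ∃ x ∈ Q, g'⁻¹ * x * g ∈ M) ∧
      ∀ x ∈ Q, ∀ g, g ∉ M → g⁻¹ * x * g ∈ M → x ∈ O := by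
  have : Fact (Nat.Prime 2) := ⟨Nat.prime_two⟩
  have ab : IsMulCommutative A := ⟨⟨fun x y => Subtype.ext ((Cf.elem e).2 x x.2 y y.2)⟩⟩
  obtain ⟨Y, _, _, φ, Q, D, t, k⟩ := BS.bender.exists_A3 h
    ⟨A, ab, fun a ha => by simpa [pow_two] using e a ha, h4⟩
  have co := H7.coprime_card_pPrimeCore 2 G
  have OM : pPrimeCore 2 G ≤ M := h.le_of_noncyclic (Cf.elem e).1 (not_cyc e (by omega)) hA le_top
    (by rw [normalizer_eq_top]; exact le_top) (Nat.prime_two.coprime_iff_not_dvd.1 co.symm)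
  set f := φ.toMonoidHom.comp (QuotientGroup.mk' (pPrimeCore 2 G))
  have fs : Function.Surjective f := φ.surjective.comp (QuotientGroup.mk'_surjective _)
  have fk : f.ker = pPrimeCore 2 G := by ext x; simp [f]
  have mm : ∀ x, f x ∈ M.map f ↔ x ∈ M := fun x => by
    rw [← mem_comap, comap_map_eq, fk, sup_eq_left.2 OM]
  have ti : t⁻¹ = t := inv_eq_of_mul_eq_one_left k.t_sq
  have dec : ∀ g, g ∉ M → ∃ x ∈ Q, ∃ y ∈ M.map f, f g = x * t * y := fun g hg => by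
    obtain ⟨a, ha, b, hb, e⟩ := k.bruhat _ (mt (mm g).1 hg)
    obtain ⟨x, hx, d, hd, rfl⟩ := k.H_eq a ha
    refine ⟨x, hx, _, mul_mem ((k.mem_D d).1 hd).2 hb, ?_⟩
    rw [e, ← mul_assoc, ← mul_assoc, ← mul_assoc, mul_assoc x t, k.t_sq, mul_one]
  refine ⟨Q.comap f, _, fun x hx => (mm x).1 (k.Q_le hx), fun g hg => H8.mem_normalizer_of_forall
    fun x hx => ?_, OM, inferInstance, co, fun g g' hg hg' => ?_, fun x hx g hg e => ?_⟩
  · simpa using k.Q_norm _ ((mm g).2 hg) _ hx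
  · obtain ⟨x, hx, y, hy, e⟩ := dec g hg
    obtain ⟨x', hx', y', hy', e'⟩ := dec g' hg'
    obtain ⟨u, hu⟩ := fs (x' * x⁻¹)
    refine ⟨u, by rw [mem_comap, hu]; exact mul_mem hx' (inv_mem hx), (mm _).1 ?_⟩
    convert mul_mem (inv_mem hy') hy using 1
    rw [map_mul, map_mul, map_inv, hu, e, e']; group
  · obtain ⟨u, hu, y, hy, e'⟩ := dec g hg
    have h1 := k.Q_norm _ (inv_mem (k.Q_le hu)) _ hx
    have := k.QD _ h1 ((k.mem_D _).2 ⟨k.Q_le h1, by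
      convert mul_mem (mul_mem hy ((mm _).2 e)) (inv_mem hy) using 1
      rw [map_mul, map_mul, map_inv, e']; nth_rewrite 1 [← ti]; group⟩)
    rw [← fk]; exact conj_eq_one_iff.1 this

theorem breg {X M A : Subgroup G} (h : SPE 2 M X) (hA : A ≤ M) (e : ∀ x ∈ A, x * x = 1) (h4 : 4 ≤ ♯A) :
    ∃ Q O : Subgroup G, Q ≤ M ∧ M ≤ 𝒩 Q ∧ O ≤ M ∧ X ≤ 𝒩 O ∧ (♯O).Coprime 2 ∧
      (∀ g ∈ X, ∀ g' ∈ X, g ∉ M → g' ∉ M → ∃ x ∈ Q, g'⁻¹ * x * g ∈ M) ∧
      ∀ x ∈ Q, ∀ g ∈ X, g ∉ M → g⁻¹ * x * g ∈ M → x ∈ O := by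
  have : Fact (Nat.Prime 2) := ⟨Nat.prime_two⟩
  have k := h.subgroupOf le_rfl
  rw [subgroupOf_self] at k
  obtain ⟨Q, O, h1, h2, h3, _, h5, h6, h7⟩ := breg0 k (A := A.subgroupOf X) (fun _ h => hA h)
    (fun x hx => Subtype.ext (e x hx))
    (by rwa [Nat.card_congr (subgroupOfEquivOfLe (hA.trans h.le)).toEquiv])
  refine ⟨Q.map X.subtype, O.map X.subtype, ?_, fun g hg => H8.mem_normalizer_of_forall ?_, ?_,
    fun g hg => H8.mem_normalizer_of_forall ?_, by rwa [H7.card_map_subtype], fun g hg g' hg' n n' => ?_, ?_⟩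
  · rintro _ ⟨x, hx, rfl⟩; exact h1 hx
  · rintro _ ⟨x, hx, rfl⟩; exact ⟨_, conj_mem_of_norm (h2 (x := ⟨g, h.le hg⟩) hg) hx, rfl⟩
  · rintro _ ⟨x, hx, rfl⟩; exact h3 hx
  · rintro _ ⟨x, hx, rfl⟩; exact ⟨_, Normal.conj_mem inferInstance x hx ⟨g, hg⟩, rfl⟩
  · obtain ⟨x, hx, k⟩ := h6 ⟨g, hg⟩ ⟨g', hg'⟩ n n'
    exact ⟨x, ⟨x, hx, rfl⟩, k⟩
  · rintro _ ⟨x, hx, rfl⟩ g hg n k
    exact ⟨x, h7 x hx ⟨g, hg⟩ n k, rfl⟩

namespace Cf

variable {C : Cf F G} {i j ε ε' : Bool} {f g g' h x y h0 : G} {s t s' t' a b' c d l : F}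
  {σ τ : F ≃+* F} {m m' : Bool → F} {A B P T : Subgroup G}

theorem ac_cent (e : Ac (C.v i) g a b' c d) (e' : Ac (C.v i) g' a b' c d) : g⁻¹ * g' ∈ 𝒞 (C.V i) :=
  (C.sd i).ac_iff.1 (ac_one.2 fun s t => by
    have := (e s t).trans (e' s t).symm
    calc _ = g⁻¹ * (g' * C.v i s t * g'⁻¹) * g' := by group
      _ = _ := by rw [← this]; group)

theorem Dg.inv (e : C.Dg g m) : C.Dg g⁻¹ fun i => (m i)⁻¹ :=
  ⟨fun i => inv_ne_zero (e.1 i), fun i => (e.2 i).inv (by have := e.1 true; have := e.1 false; grind)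
    (by ring) (by ring) (by have := e.1 i; grind)⟩

theorem dg_Z (hx : x ∈ C.Z) : C.Dg x fun _ => 1 :=
  ⟨fun _ => one_ne_zero, fun i => by simpa using (C.sd i).ac_iff.2 ((C.sd i).abel (C.ZV i hx))⟩

variable (C) in
/-- the torus -/
def Tt (h0 g : G) (m : Bool → F) : Prop := C.Dg g m ∧ h0 * g = g * h0

theorem Tt.mul (e : C.Tt h0 g m) (e' : C.Tt h0 g' m') : C.Tt h0 (g * g') fun i => m i * m' i :=
  ⟨e.1.mul e'.1, (Commute.mul_right e.2 e'.2).eq⟩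

variable [C.Cv]

theorem uq (k : Ac (C.v i) h s 0 0 s) (s1 : s ≠ 1) (h1 : h * g = g * h) (h2 : h * g' = g' * h)
    (e : Ac (C.v i) g a b' c d) (e' : Ac (C.v i) g' a b' c d) : g = g' :=
  inv_mul_eq_one.1 (fpf' k s1 s1 (Cv.cv i (ac_cent e e')) ((Commute.inv_right h1).mul_right h2).eq)

theorem ex_s (k : Ac (C.v i) h s 0 0 s) (s0 : s ≠ 0) (s1 : s ≠ 1) (A : SL(2, F)) : ∃ g ∈ C.L i,
    h * g = g * h ∧ Ac (C.v i) g (A.1 0 0) (A.1 0 1) (A.1 1 0) (A.1 1 1) := by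
  obtain ⟨x, hx, e⟩ := (C.sd i).sur _ _ _ _ (det2 A)
  have k' := k.inv (a' := s⁻¹) (b' := 0) (c' := 0) (d' := s⁻¹) (by grind) (by ring) (by ring) (by grind)
  obtain ⟨y, hy, h1, -⟩ := adj (x := x) k s1 s1 (Cv.cv i (by
    simpa [mul_assoc] using ac_cent e (((k.mul e).mul k').congr (by grind) (by grind) (by grind)
      (by grind))))
  exact ⟨_, mul_mem hx ((C.sd i).VL hy), h1, by
    simpa using e.mul ((C.sd i).ac_iff.2 ((C.sd i).abel hy))⟩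

theorem dg_cm (e : C.Dg g m) (e' : C.Dg g' m') : g⁻¹ * g' * g * g'⁻¹ ∈ C.Z := by
  have := ((e.inv.mul e').mul e).mul e'.inv
  have k : ∀ i, g⁻¹ * g' * g * g'⁻¹ ∈ C.V i := fun i => Cv.cv i ((C.sd i).ac_iff.1 ((this.2 i).congr
    (by have := e.1 true; have := e.1 false; have := e'.1 true; have := e'.1 false; grind) rfl rfl
    (by have := e.1 i; have := e'.1 i; grind)))
  exact ⟨k _, k _⟩

variable (H0 : C.Dg h0 fun _ => l) (l3 : l ^ 3 ≠ 1)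
include H0 l3

theorem tt_ext (e : C.Dg g m) : ∃ y ∈ C.Z, C.Tt h0 (g * y) m := by
  obtain ⟨y, -, h1, h2⟩ := adj (H0.2 true) (by grind) (by grind) (C.ZV _ (dg_cm e H0))
  exact ⟨y, h2 (dg_cm e H0), (e.mul (dg_Z (h2 (dg_cm e H0)))).congr fun i => mul_one _, h1⟩

theorem tt_comm (e : C.Tt h0 g m) (e' : C.Tt h0 g' m') : g * g' = g' * g := by
  have := fpf' (H0.2 true) (by grind) (by grind) (C.ZV _ (dg_cm e.1 e'.1))
    ((((Commute.inv_right e.2).mul_right e'.2).mul_right e.2).mul_right (Commute.inv_right e'.2)).eq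
  rw [mul_inv_eq_one, mul_assoc, inv_mul_eq_iff_eq_mul] at this
  exact this.symm

theorem tt_ex (i : Bool) (ha : a ≠ 0) :
    ∃ g ∈ C.L i, C.Tt h0 g fun j => if j = i then a⁻¹ else a * a := by
  obtain ⟨g, hg, e⟩ := C.ex_dg i ha
  obtain ⟨y, hy, k⟩ := tt_ext H0 l3 e
  exact ⟨_, mul_mem hg (C.JL i (C.ZJ hy)), k⟩

theorem tt_ex2 (i : Bool) (ha : a ≠ 0) (hc : c ≠ 0) :
    ∃ g, C.Tt h0 g fun j => if j = i then c * c / a else a * a / c := by
  obtain ⟨g, e⟩ := C.ex_dg2 i ha hc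
  obtain ⟨y, -, k⟩ := tt_ext H0 l3 e
  exact ⟨_, k⟩

variable (C h0) in
omit H0 l3 in
/-- the sections -/
structure Sec (s : Bool → SL(2, F) →* G) : Prop where
  L : ∀ i A, s i A ∈ C.L i
  ac : ∀ i A, Ac (C.v i) (s i A) (A.1 0 0) (A.1 0 1) (A.1 1 0) (A.1 1 1)
  sU : ∀ i t, s i (U t) = C.v (!i) 0 t
  d : ∀ i b, s (!i) (dg b) * s i (W F) * (s (!i) (dg b))⁻¹ = s i (W F * dg b)
  wT : ∀ i g m, C.Tt h0 g m → C.Tt h0 (s i (W F) * g * (s i (W F))⁻¹)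
    fun j => if j = i then m true * m false else (m j)⁻¹
  sc : ∀ i g m A, C.Tt h0 g m → m (!i) = 1 → g * s i A = s i A * g

theorem ex_sec : ∃ s, C.Sec h0 s := by
  have l0 := H0.1 true
  choose H hH using fun i => tt_ex2 H0 l3 i l0 (mul_ne_zero l0 l0)
  have hA : ∀ i, Ac (C.v i) (H i) (l ^ 3) 0 0 (l ^ 3) := fun i => ((hH i).1.2 i).congr
    (by cases i <;> simp <;> grind) rfl rfl (by simp; grind)
  choose s sL sH sA using fun i => ex_s (hA i) (pow_ne_zero 3 l0) l3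
  have su : ∀ i g A, H i * g = g * H i → Ac (C.v i) g (A.1 0 0) (A.1 0 1) (A.1 1 0) (A.1 1 1) →
      g = s i A := fun i g A h e => uq (hA i) l3 h (sH i A) e (sA i A)
  have sT : ∀ i g m A, C.Tt h0 g m → H i * (g * s i A * g⁻¹) = g * s i A * g⁻¹ * H i :=
    fun i g m A e => by
      have := tt_comm H0 l3 (hH i) e
      exact ((Commute.mul_right this (sH i A)).mul_right (Commute.inv_right this)).eq
  have wA : ∀ i, Ac (C.v i) (s i (W F)) 0 1 1 0 := fun i => by simpa [W_coe] using sA i (W F)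
  refine ⟨fun i => MonoidHom.mk' (s i) fun A B => (su i _ _ (Commute.mul_right (sH i A) (sH i B)).eq (by
    simpa [Matrix.mul_apply, Fin.sum_univ_two] using (sA i A).mul (sA i B))).symm, sL, sA,
    fun i t => (su i _ _ ?_ (C.cr i 0 t)).symm, fun i b => ?_, fun i g m e => ?_,
    fun i g m A e m1 => ?_⟩ <;> try simp only [MonoidHom.mk'_apply]
  · have := (hH i).1.2 (!i) 0 t
    simpa [l0, mul_inv_eq_iff_eq_mul] using this
  · obtain ⟨g, -, e⟩ := tt_ex H0 l3 (!i) b.ne_zero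
    obtain rfl := su (!i) g (dg b) (tt_comm H0 l3 (hH _) e) ((e.1.2 (!i)).congr
      (by cases i <;> simp [dg_coe]) (by simp [dg_coe]) (by simp [dg_coe]) (by simp [dg_coe]))
    refine su i _ _ (sT i _ _ _ e) ((((e.1.2 i).mul (wA i)).mul (e.1.inv.2 i)).congr ?_ ?_ ?_ ?_) <;>
      cases i <;> simp [dg_coe, W_coe]
  · obtain ⟨u, -, e'⟩ := tt_ex H0 l3 i (inv_ne_zero (e.1.1 (!i)))
    have k := e.mul e'
    have c := tt_comm H0 l3 (hH i) e
    have n := e.1.1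
    rw [uq (hA i) l3 ((Commute.mul_right (sH i _) c).mul_right (Commute.inv_right (sH i _))).eq
      (tt_comm H0 l3 (hH i) k) ((((wA i).mul (e.1.2 i)).mul ((wA i).inv (a' := 0) (b' := 1) (c' := 1)
        (d' := 0) (by simp) (by simp) (by simp) (by simp))).congr ?_ ?_ ?_ ?_) (k.1.2 i)]
    · exact ⟨k.1.congr fun j => by cases i <;> cases j <;> simp [n, mul_comm], k.2⟩
    all_goals cases i <;> simp [n, mul_comm]
    all_goals have := n true; have := n false; field_simp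
  · have n := e.1.1 i
    have c : m true * m false = m i := by
      cases i; exacts [by rw [show m true = 1 from m1, one_mul], by rw [show m false = 1 from m1, mul_one]]
    have c' : (m true)⁻¹ * (m false)⁻¹ = (m i)⁻¹ := by rw [← c, mul_inv]
    rw [← mul_inv_eq_iff_eq_mul]
    refine su i _ _ (sT i _ _ _ e) ((((e.1.2 i).mul (sA i A)).mul (e.1.inv.2 i)).congr ?_ ?_ ?_ ?_) <;>
      simp only [c, c'] <;> grind

end Cf

end Cfsg.LT
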