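import Cfsg.Agent.LT.B7

/-! Fields with at least eight elements: the braid relation and the identification. -/

set_option autoImplicit false
set_option linter.unusedSectionVars false

namespace Cfsg.LT

open Subgroup Cfsg.L0 Cfsg.FT Cfsg.H3 Cfsg.H9
open scoped MatrixGroups

variable {G : Type*} [Group G] [Finite G] {F : Type*} [Field F] [Fintype F] [CharP F 2]

namespace Cf

variable {C : Cf F G} {i j ε ε' : Bool} {f g g' h x y h0 : G} {l : F}
  {σ τ : F ≃+* F} {m m' : Bool → F} {A B N P T : Subgroup G} {s : Bool → SL(2, F) →* G}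

theorem Sec.wz (S : C.Sec h0 s) (i : Bool) (x : F) :
    s i (W F) * C.z x * (s i (W F))⁻¹ = C.v i 0 x := by
  simpa [W_coe, C.v0] using S.ac i (W F) x 0

theorem Sec.wv (S : C.Sec h0 s) (i : Bool) (x : F) :
    s i (W F) * C.v i 0 x * (s i (W F))⁻¹ = C.z x := by
  simpa [W_coe, C.v0] using S.ac i (W F) 0 x

theorem w_inv (s : Bool → SL(2, F) →* G) (i : Bool) : (s i (W F))⁻¹ = s i (W F) := by
  rw [← map_inv, W_inv]

/-- the long Weyl elements -/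
def w0 (s : Bool → SL(2, F) →* G) (i : Bool) : G := s i (W F) * s (!i) (W F) * s i (W F)

theorem w0_inv (i : Bool) : (w0 s i)⁻¹ = w0 s i := by
  simp only [w0, mul_inv_rev, w_inv, mul_assoc]

theorem Sec.lo (S : C.Sec h0 s) (i : Bool) : w0 s i * C.z 1 * (w0 s i)⁻¹ =
    s i (W F) * s (!i) (Lo 1) * (s i (W F))⁻¹ := by
  rw [Lo_eq, map_mul, map_mul, map_inv, S.sU, Bool.not_not, ← S.wz, w0]; group

theorem Sec.rel (S : C.Sec h0 s) (i : Bool) :
    w0 s i = C.z 1 * (w0 s i * C.z 1 * (w0 s i)⁻¹) * C.z 1 := by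
  rw [S.lo, ← S.wv i, w0]
  nth_rewrite 2 [W]
  rw [map_mul, map_mul, S.sU, Bool.not_not]
  nth_rewrite 2 [← w_inv s i]
  group

theorem Sec.nw (S : C.Sec h0 s) (i : Bool) : w0 s i ∉ 𝒩 C.J := fun k => by
  have := conj_mem_of_norm' (C.LV i (S.L i (W F))) (C.ZV i (S.lo i ▸ conj_mem_of_norm (NJZ k) (C.zZ 1)))
  rw [show (s i (W F))⁻¹ * (s i (W F) * s (!i) (Lo 1) * (s i (W F))⁻¹) * s i (W F) = s (!i) (Lo 1) by
    group] at this
  simpa [Lo_coe] using ((C.md _).uniq (S.ac (!i) (Lo 1)) (b_ac i (C.VJ i this))).2.2.1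

theorem Sec.w0T (S : C.Sec h0 s) (i : Bool) (e : C.Tt h0 g m) :
    ∃ m, C.Tt h0 ((w0 s i)⁻¹ * g * w0 s i) m :=
  ⟨_, by
    convert S.wT i _ _ (S.wT (!i) _ _ (S.wT i g m e)) using 1
    simp only [w0, mul_inv_rev, w_inv, mul_assoc]⟩

variable (C h0) in
/-- the centralizer of the homologies -/
def X : Subgroup G := centralizer {g | ∃ m, C.Tt h0 g m ∧ m true * m false = 1}

theorem Sec.wX (S : C.Sec h0 s) (i : Bool) : w0 s i ∈ C.X h0 := by
  rintro g ⟨m, e, k⟩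
  have := S.sc (!i) _ _ (W F) (S.wT i g m e) (by simpa using k)
  rw [w_inv] at this
  have w2 : s i (W F) * s i (W F) = 1 := by rw [← map_mul, W_sq, map_one]
  calc _ = s i (W F) * (s i (W F) * g * s i (W F) * s (!i) (W F)) * s i (W F) := by
        simp only [w0, ← mul_assoc, w2, one_mul]
    _ = _ := by rw [this, w0]; simp only [mul_assoc, w2, mul_one]

theorem ZX : C.Z ≤ C.X h0 := fun x hx => by
  rintro g ⟨m, e, k⟩
  obtain ⟨s, rfl⟩ := mem_Z.1 hx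
  simpa [k, mul_inv_eq_iff_eq_mul] using e.1.toIn.az s

theorem L_le' (h : C.J ≤ A) (h' : C.L i ≤ 𝒩 A) : C.L i ≤ A := by
  obtain ⟨w, hw, k⟩ := (C.sd i).sur 0 1 1 0 (by simp)
  have k' := k.inv (a' := 0) (b' := 1) (c' := 1) (d' := 0) (by simp) (by simp) (by simp) (by simp)
  exact L_le h fun t => ⟨_, conj_mem_of_norm (h' hw) (h (C.vJ (!i) 0 t)),
    mul_mem (mul_mem hw (C.JL i (C.vJ _ _ _))) (inv_mem hw),
    ((k.mul (C.cr i 0 t)).mul k').congr (by ring) (by ring) (by ring) (by ring)⟩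

variable [C.Cv] (q : 4 < Fintype.card F) (H0 : C.Dg h0 fun _ => l) (l3 : l ^ 3 ≠ 1)
include H0 l3

theorem TX (e : C.Tt h0 g m) : g ∈ C.X h0 := by
  rintro g' ⟨m', e', -⟩; exact tt_comm H0 l3 e' e

theorem ex_hom {a : F} (ha : a ≠ 0) (hx : x ∈ C.X h0) :
    ∃ g, C.Dg g (fun j => cond j (a ^ 3) (a ^ 3)⁻¹) ∧ g * x = x * g := by
  obtain ⟨g, e⟩ := tt_ex2 H0 l3 true (inv_ne_zero ha) ha
  exact ⟨g, e.1.congr fun j => by cases j <;> simp <;> field_simp, hx g ⟨_, e, by simp; field_simp⟩⟩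

theorem X_dt (hx : x ∈ C.X h0) (d : C.Dt x ε σ m) {a : F} (ha : a ≠ 0) :
    σ (cond (xor true ε) (a ^ 3) (a ^ 3)⁻¹) = a ^ 3 := by
  obtain ⟨g, e, k⟩ := ex_hom H0 l3 ha hx
  have := d.conj e.toIn
  rw [← k, mul_inv_cancel_right] at this
  exact (this.uniq e.toIn).2.1 true

theorem JX (hx : x ∈ C.J) (hx' : x ∈ C.X h0) : x ∈ C.Z := Z_of_b hx fun i => by
  obtain ⟨g, e, k⟩ := ex_hom H0 l3 (H0.1 true) hx'
  have := e.toIn.b i hx
  rw [k, mul_inv_cancel_right, Bool.xor_false] at this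
  have l0 := H0.1 true
  cases i <;> simp at this <;> grind

include q

theorem invA (hf : f ∈ C.X h0 ⊓ 𝒩 C.J) (e : f * f = 1) (f1 : f ≠ 1) : 𝒞₁ f ≤ 𝒩 C.J := by
  obtain ⟨ε, σ, m, d⟩ := ex_dt hf.2
  cases ε
  · exact CZ q (JX H0 l3 (d.K0 (fix_cube q fun a => by
      by_cases a0 : a = 0
      exacts [by simp [a0], X_dt H0 l3 hf.1 d a0]) ⟨1, by simpa [pow_two] using e⟩) hf.1) f1
  · exact OI2 q d e

theorem wZ (S : C.Sec h0 s) (i : Bool) (hx : x ∈ C.Z) (k : (w0 s i)⁻¹ * x * w0 s i ∈ 𝒩 C.J) : x = 1 := by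
  by_contra x1
  have h1 := DN q (g := (w0 s i)⁻¹) (C.ZJ hx) (vsq (C.ZV true hx)) (by rwa [inv_inv])
  exact S.nw i (inv_mem_iff.1 (TI q hx x1 (JX H0 l3 h1 (mul_mem (mul_mem (inv_mem (S.wX i)) (ZX hx))
    (inv_mem (inv_mem (S.wX i)))))))

theorem invB (S : C.Sec h0 s) (hf : f ∈ C.X h0 ⊓ 𝒩 C.J) (e : f * f = 1) : f ∈ C.Z := by
  refine JX H0 l3 (by_contra fun f1 => ?_) hf.1
  have u2 := conj_sq (C.zsq 1) (w0 s true)⁻¹
  have uX := mul_mem (mul_mem (inv_mem (S.wX true)) (ZX (C.zZ 1))) (inv_mem (inv_mem (S.wX true)))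
  by_cases o : Odd (orderOf ((w0 s true)⁻¹ * C.z 1 * (w0 s true)⁻¹⁻¹ * f))
  · obtain ⟨g, -, k⟩ := exists_conj_of_odd_orderOf_mul u2 e o
    have k' : f = g * (w0 s true)⁻¹ * C.z 1 * (g * (w0 s true)⁻¹)⁻¹ := by rw [← k]; group
    exact f1 (k' ▸ DN0 q (k' ▸ hf.2))
  · obtain ⟨y, hy, y1, y2⟩ := exists_mem_pow_eq_one_of_dvd (p := 2) (hp := ⟨Nat.prime_two⟩)
      ((Nat.not_odd_iff_even.1 o).two_dvd.trans (card_zpow _).symm.dvd)
    rw [pow_two] at y2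
    have c1 := inverts_of_mem_zpowers (inverts_mul_left u2 e) hy
    have c2 := inverts_of_mem_zpowers (inverts_mul_right u2 e) hy
    rw [inv_eq_of_mul_eq_one_left y2, mul_inv_eq_iff_eq_mul] at c1 c2
    have := invA q H0 l3 ⟨zpowers_le.2 (mul_mem uX hf.1) hy, invA q H0 l3 hf e
      (fun k => f1 (k ▸ one_mem _)) (mem_cent1.2 c2.symm)⟩ y2 y1 (mem_cent1.2 c1)
    exact C.zne one_ne_zero (wZ q H0 l3 S true (C.zZ 1) (by rwa [inv_inv] at this))

theorem braid (S : C.Sec h0 s) : w0 s true = w0 s false := by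
  have : Fact (Nat.Prime 2) := ⟨Nat.prime_two⟩
  have l0 := H0.1 true
  have ZM : C.Z ≤ C.X h0 ⊓ 𝒩 C.J := le_inf ZX (C.ZJ.trans (le_norm _))
  have sp : SPE 2 (C.X h0 ⊓ 𝒩 C.J) (C.X h0) := spe_of_ti inf_le_left
    (fun e => S.nw true (e.ge (S.wX true)).2) (dvd_card_of_mem (ZM (C.zZ 1)) (C.zne one_ne_zero)
      (by rw [pow_two, C.zsq])) fun g hg hd => by
      obtain ⟨x, hx, x1, e⟩ := exists_mem_pow_eq_one_of_dvd hd
      rw [pow_two] at e
      exact ⟨hg, (𝒩 C.J).inv_mem_iff.1 (TI q (invB q H0 l3 S hx.1 e) x1 (invB q H0 l3 S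
        (by simpa using mem_cj.1 hx.2) (conj_sq e _)))⟩
  obtain ⟨Q, O, h1, h2, h3, h4, h5, h6, h7⟩ := breg sp ZM (fun x hx => vsq (C.ZV true hx))
    (by rw [C.card_Z_eq]; omega)
  have OZ : O ≤ 𝒞 C.Z := le_cent_of_inf_eq_bot (h3.trans (inf_le_right.trans NJZ)) (ZX.trans h4)
    (inf_eq_bot_of_cop (cop_of_pgroup Nat.prime_two (C.pJ.to_le C.ZJ)
      (Nat.prime_two.coprime_iff_not_dvd.1 h5.symm)).symm)
  have nw : ∀ i, w0 s i ∉ C.X h0 ⊓ 𝒩 C.J := fun i k => S.nw i k.2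
  obtain ⟨x, hx, k⟩ := h6 _ (S.wX true) _ (S.wX false) (nw _) (nw _)
  have TM : ∀ g m, C.Tt h0 g m → g ∈ C.X h0 ⊓ 𝒩 C.J := fun g m e => ⟨TX H0 l3 e, e.1.toIn.mem⟩
  have wM : ∀ i g m, C.Tt h0 g m → (w0 s i)⁻¹ * g * w0 s i ∈ C.X h0 ⊓ 𝒩 C.J := fun i g m e => by
    obtain ⟨m, e⟩ := S.w0T i e; exact TM _ _ e
  have ta : ∀ a : F, a ≠ 0 → ∃ t m, C.Tt h0 t m ∧ ∀ r, t * C.z r * t⁻¹ = C.z (a * r) := fun a ha => by
    obtain ⟨t, -, e⟩ := tt_ex H0 l3 true ha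
    exact ⟨t, _, e, fun r => by simpa [ha] using e.1.toIn.az r⟩
  obtain ⟨ε, σ, m, d⟩ := ex_dt (h1 hx).2
  have hσ : ∀ a, σ a = a := fun a => by
    by_cases a0 : a = 0
    · simp [a0]
    obtain ⟨t, m', e, e'⟩ := ta a a0
    have := mem_cent.1 (OZ (h7 _ (mul_mem (inv_mem hx) (conj_mem_of_norm (h2 (TM _ _ e)) hx)) _
      (S.wX true) (nw _) (by
        convert mul_mem (mul_mem (mul_mem (inv_mem k) (wM false _ _ e)) k) (inv_mem (wM true _ _ e))
          using 1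
        group))) _ (C.zZ (a * 1))
    have h8 : x * C.z (a * 1) * x⁻¹ = t * (x * C.z 1 * x⁻¹) * t⁻¹ := by
      calc _ = x * (C.z (a * 1) * (x⁻¹ * (t * x * t⁻¹))) * (t * x * t⁻¹)⁻¹ := by group
        _ = _ := by rw [this, ← e']; group
    rw [d.az, d.az, e', mul_one, map_one, mul_one, mul_comm a] at h8
    exact mul_left_cancel₀ (mul_ne_zero (d.ne _) (d.ne _)) (C.zinj h8)
  obtain rfl : ε = false := by
    cases ε
    · rfl
    have := X_dt H0 l3 (h1 hx).1 d l0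
    rw [hσ] at this
    simp at this
    exact absurd (by grind) l3
  obtain ⟨y, hy, e⟩ := tt_ext H0 l3 (g := x) ⟨d.ne, fun i => by
    obtain ⟨r, e⟩ := d.lin hσ i
    obtain ⟨g, e', c⟩ := ex_hom H0 l3 l0 (h1 hx).1
    have := ((C.md i).uniq (c ▸ (e'.2 i).mul e) (e.mul (e'.2 i))).2.1
    refine e.congr rfl ?_ rfl rfl
    cases i <;> simp at this <;> grind⟩
  have k1 : (w0 s false)⁻¹ * y⁻¹ * w0 s true ∈ C.X h0 ⊓ 𝒩 C.J := by
    convert mul_mem (inv_mem (wM false _ _ e)) k using 1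
    group
  obtain ⟨t, m', e1, e2⟩ := ta l l0
  have := wZ q H0 l3 S true (mul_mem hy (conj_mem_of_norm (NJZ e1.1.toIn.mem) (inv_mem hy))) (by
    convert (mem_inf.1 (mul_mem (inv_mem k1) (mul_mem (mul_mem (wM false _ _ e1) k1)
      (inv_mem (wM true _ _ e1))))).2 using 1
    group)
  obtain ⟨r, rfl⟩ := mem_Z.1 hy
  rw [inv_eq_of_mul_eq_one_left (C.zsq r), e2, ← C.za, ← C.z0] at this
  obtain rfl : r = 0 := by have := C.zinj this; grind
  rw [C.z0, inv_one, mul_one] at k1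
  have k2 := conj_mem_of_norm (NJZ k1.2) (C.zZ 1)
  have zN := le_norm _ (C.ZJ (C.zZ 1))
  have := wZ q H0 l3 S false (mul_mem (inv_mem (C.zZ 1)) k2) (by
    have := mul_mem (mul_mem zN k1.2) (inv_mem zN)
    rw [S.rel true, S.rel false] at this
    convert this using 1
    nth_rewrite 1 [w0_inv]; nth_rewrite 4 [← w0_inv]; group)
  rw [S.rel true, S.rel false]
  nth_rewrite 5 [inv_mul_eq_one.1 this]
  group

omit H0 l3 in
theorem nrm_le (h : N ≠ ⊥) (hL : ∀ i, C.L i ≤ 𝒩 N) (i : Bool) : C.L i ≤ N := by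
  have : Fact (Nat.Prime 2) := ⟨Nat.prime_two⟩
  have JN := (C.JL true).trans (hL _)
  have key : ∀ A ≤ N, A ≤ 𝒩 C.J → C.J ≤ 𝒩 A → N ⊓ C.J = ⊥ → A = ⊥ := fun A h1 h2 h3 h4 =>
    eq_bot_of_le h4 (le_inf h1 (((le_cent_of_inf_eq_bot h2 h3 (eq_bot_of_le h4
      (inf_le_inf_right _ h1))).trans (cent_anti (C.VJ true))).trans ((Cv.cv true).trans (C.VJ _))))
  have ne : N ⊓ C.J ≠ ⊥ := fun k => by
    obtain ⟨P, hP, JP⟩ := H8.exists_isSyl_ge C.pJ (le_sup_right : C.J ≤ N ⊔ C.J)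
    have s := hP.inf le_sup_left (hP.le.trans (sup_le (le_norm _) JN))
    rw [key _ inf_le_right (inf_le_left.trans (two_NJ hP.isPGroup JP))
      (le_norm_inf (le_norm_of_le JP) JN) k] at s
    have sq := fun x (hx : x ∈ C.Z) => vsq (C.ZV true hx)
    have : IsMulCommutative C.Z := ⟨⟨fun x y => Subtype.ext ((elem sq).2 x x.2 y y.2)⟩⟩
    exact h (key N le_rfl (generation_noncyclic (C.ZJ.trans JN) (cop_of_pgroup Nat.prime_two
      (C.pJ.to_le C.ZJ) (by simpa using s.not_dvd)) (not_cyc sq (C.card_Z_eq ▸ C.h2))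
      fun a ha a1 => inf_le_right.trans (CZ q ha a1)) JN k)
  obtain ⟨u, hu, u1, u2⟩ := exists_mem_pow_eq_one_of_dvd (H8.dvd_card_of_ne_bot C.pJ.to_inf_right ne)
  obtain ⟨j, g, hg, rfl⟩ := inv_cj hu.2 (by rwa [pow_two] at u2) u1
  have z1 : C.z 1 ∈ N := by simpa [mul_assoc] using conj_mem_of_norm' (hL j hg) hu.1
  refine L_le' (J_le fun j x hx => ?_) (hL i)
  by_cases x1 : x = 1
  · exact x1 ▸ one_mem _
  obtain ⟨g, hg, rfl⟩ := trans j hx x1
  exact conj_mem_of_norm (hL j hg) z1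

omit H0 l3 in
theorem big (C : Cf F G) [C.Cv] : Nonempty (generalizedFittingSubgroup G ≃* PSL(3, F)) := by
  have : Fact (Nat.Prime 2) := ⟨Nat.prime_two⟩
  obtain ⟨l, l0, l3⟩ := exists_big (n := 4) (by omega) q
  obtain ⟨h0, H0⟩ := C.ex_dg2 true l0 l0
  replace H0 : C.Dg h0 fun _ => l := H0.congr fun i => by simp [l0]
  obtain ⟨s, S⟩ := ex_sec H0 l3
  have zU : ∀ i x y, C.z x * s (!i) (U y) = C.v i x y := fun i x y => by
    rw [S.sU, Bool.not_not, C.zv, add_zero]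
  let a : A2 F G := ⟨s, C.z, C.za, fun i A x y => by rw [zU, zU, S.ac], S.d, braid q H0 l3 S⟩
  have aV : a.V true = C.V true := Subgroup.ext fun x => by
    rw [(C.sd true).memV]
    exact exists₂_congr fun _ _ => Iff.of_eq (congrArg _ (zU true _ _))
  have JK : C.J ≤ a.K := J_le fun i x hx => by
    obtain ⟨u, t, rfl⟩ := ((C.sd i).memV x).1 hx
    rw [← zU, ← S.wv i, ← Bool.not_not i, ← S.sU, Bool.not_not]
    exact mul_mem (mul_mem (mul_mem (a.sK _ _) (a.sK _ _)) (inv_mem (a.sK _ _))) (a.sK _ _)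
  have LK : ∀ i, C.L i ≤ a.K := fun i => L_le JK fun t => ⟨_, a.sK i (Lo t), S.L _ _, S.ac i (Lo t)⟩
  have KL : ∀ A, (∀ i, C.L i ≤ A) → a.K ≤ A := fun A h => by
    refine sup_le ?_ ?_ <;> rintro _ ⟨B, rfl⟩ <;> exact h _ (S.L _ B)
  have CK : 𝒞 a.K = ⊥ := eq_bot_iff.2 fun x hx => by
    have h1 := cent_anti JK hx
    obtain ⟨r, rfl⟩ := mem_Z.1 (VCJ (Cv.cv true (cent_anti (C.VJ _) h1)) h1)
    have := S.wz true r
    rw [show s true (W F) * C.z r = _ from mem_cent.1 hx _ (a.sK true _), mul_inv_cancel_right] at this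
    rw [← ((C.md true).eq this).2, C.z0]; exact one_mem _
  have z1 := C.zne (one_ne_zero (α := F))
  have ns : ¬ Sol a.K := fun h => (h.der_lt (ne_bot_of_mem (JK (C.ZJ (C.zZ 1))) z1)).not_ge (KL _
    (nrm_le (C := C) q (fun k => z1 (eq_one_of_mem CK (comm_eq_bot_iff.1 k (JK (C.ZJ (C.zZ 1))))))
      fun i => (LK i).trans (left_le_norm_comm _ _)))
  have NK : 𝒩 C.J ≤ 𝒩 a.K := fun g hg => by
    obtain ⟨ε, e⟩ := ex_eps hg
    refine inv_mem_iff.1 (mem_norm_of_cj_le (le_cj_iff.1 (KL _ fun j => le_trans (L_le'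
      (cj_eq_iff.2 hg ▸ cj_mono g (C.JL (xor j ε))) ?_) (cj_mono g (LK (xor j ε))))))
    rw [← cj_norm, ← C.NL, cj_norm, e, Bool.xor_assoc, Bool.xor_self, Bool.xor_false]
    exact C.LV j
  have top : 𝒩 a.K = ⊤ := by_contra fun n => by
    obtain ⟨T, hT, JT⟩ := H7.exists_isSylowIn_ge C.pJ (JK.trans (le_norm _))
    have TJ := two_NJ hT.isPGroup JT
    have := BS.bender.sol ⟨C.Z, ⟨⟨fun x y => Subtype.ext ((elem fun x (hx : x ∈ C.Z) =>
      vsq (C.ZV true hx)).2 x x.2 y y.2)⟩⟩, fun a ha => by simpa [pow_two] using vsq (C.ZV true ha),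
      by rw [C.card_Z_eq]; omega⟩ _ (spe_top_iff.1 (spe_of_centralizer le_top n hT
        (inf_le_right.trans ((NJ_of' JT TJ).trans NK)) fun x hx x1 e => inf_le_right.trans
          (OI1 q NK (fun i => (LK i).trans (le_norm _)) (TJ hx) x1 (by rwa [pow_two] at e))))
    exact ns (Sol.mono this (le_norm _))
  have : a.K.Normal := normal_of_top_le top.ge
  have nl : ∀ N : Subgroup G, N.Normal → N ≠ ⊥ → a.K ≤ N := fun N _ h => KL _
    (nrm_le (C := C) q h fun i => by rw [normalizer_eq_top]; exact le_top)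
  have : Nontrivial G := ⟨_, _, z1⟩
  have e : generalizedFittingSubgroup G = a.K := le_antisymm (sup_le (sSup_le fun D hD =>
    (component_le_or_comm hD (Normal.isSubnormal ‹_›)).elim id fun k =>
      (comm_eq_bot_iff.1 k).trans (CK ▸ bot_le)) (by
      by_contra k
      exact ns (Sol.mono (Nil.sol (isNilpotent_fitting G)) (nl _ inferInstance fun e => k (e ▸ bot_le)))))
    (nl _ inferInstance fstar_ne_bot)
  rw [e]
  refine a.recog (fun k => one_ne_zero (of_other (i := true) (s := 0) ((C.sd _).abel ?_)))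
    (fun x y e => (C.md true).inj _ _ ((zU true x y).symm.trans e)) (by rw [CK, inf_bot_eq])
  rw [aV] at k
  exact S.wz false 1 ▸ conj_mem_of_norm k (C.zV _ _)

end Cf

end Cfsg.LT
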